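import Cfsg.Agent.HZ.L.SL.Defs

/-!
# HZ/L: labels which are not quasi-isolated have a core; labels which are trivial on the coroots (helper34)

For every datum: `ctl_of_not_qi`, `gd_of_cor`, `Gd.tl`, `lf_of_int`.
-/

set_option autoImplicit false
set_option linter.unusedSectionVars false
set_option maxHeartbeats 200000

namespace Cfsg.Agent.HZ.L

open Cfsg Cfsg.Agent.DL Cfsg.Agent.DL.PP Matrix Cfsg.Agent.KZ.Lie Cfsg.Agent.ODD.Red

section Comb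

variable {R : Type} [Fintype R] [DecidableEq R] {Ψ : RS R} {A : Mat R} {c c' : Lb R}

/-- a generic vector of a lattice -/
theorem exists_generic (Λ : Submodule ℤ (Vec R)) {s : Set (Vec R)} (hs : s.Finite) :
    ∃ v ∈ Λ, ∀ a ∈ s, a ⬝ᵥ v = 0 → ∀ mu ∈ Λ, a ⬝ᵥ mu = 0 := by
  classical
  induction s, hs using Set.Finite.induction_on with
  | empty => exact ⟨0, zero_mem _, fun _ h => h.elim⟩
  | @insert f s _ hs ih =>
    obtain ⟨v, h1, h2⟩ := ih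
    by_cases hf : ∀ mu ∈ Λ, f ⬝ᵥ mu = 0
    · exact ⟨v, h1, by rintro a (rfl | ha); exacts [fun _ => hf, h2 a ha]⟩
    push Not at hf
    obtain ⟨w, h3, h4⟩ := hf
    obtain ⟨n, hn⟩ := ((hs.insert f).image fun a => |a ⬝ᵥ w| + 1).bddAbove
    refine ⟨n • v + w, add_mem (Λ.smul_mem n h1) h3, fun a ha h0 => ?_⟩
    rw [dotProduct_add, dotProduct_smul, smul_eq_mul] at h0
    have h5 := abs_lt.1 (Int.lt_of_add_one_le (hn ⟨a, ha, rfl⟩))
    have h6 : a ⬝ᵥ v = 0 := by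
      rcases lt_trichotomy (a ⬝ᵥ v) 0 with h | h | h
      · nlinarith
      · exact h
      · nlinarith
    rcases ha with rfl | h7
    · exact absurd (by rwa [h6, mul_zero, zero_add] at h0) h4
    · exact h2 a h7 h6

theorem rfm_vec (a : Vec R × Vec R) (v : Vec R) : rfm a *ᵥ v = v - (a.1 ⬝ᵥ v) • a.2 := by
  rw [rfm, sub_mulVec, one_mulVec, vecMulVec_mulVec]
  simp

/-- a label which is trivial on the coroots is fixed by the Weyl group -/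
theorem tl_of_cor (h : ∀ a ∈ Ψ, chr a.2 c = 1) (hA : A ∈ WW Ψ) : Tl A c c := by
  induction hA using Submonoid.closure_induction with
  | mem x hx =>
    obtain ⟨a, ha, rfl⟩ := hx
    intro v
    rw [rfm_vec, chr_sub, chr_zsmul, h a ha, _root_.one_zpow, inv_one, mul_one]
  | one => exact tl_one c
  | mul x y _ _ hx hy => exact hy.trans hx

theorem Gd.tl (h : Gd c') (e : Tl A c c') : Gd c := h.imp fun n h => ⟨h.1, (h.2 ▸ e.pow (4 * n)).eq_one⟩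

/-- a root of unity which is fixed by `σ` has an order which is not divisible by `4` -/
theorem sg_pow_eq {σ : ℂ ≃+* ℂ} (hσ : Sg σ) {x : ℂˣ} (hx : σ x = x) {m : ℕ} (e : ℕ)
    (h : x ^ (2 ^ e * m) = 1) : x ^ (2 * m) = 1 := by
  induction e with
  | zero => rw [mul_comm 2, pow_mul, ← one_mul m, ← pow_zero 2, h, one_pow]
  | succ e ih =>
    rcases e with _ | e
    · simpa using h
    refine ih (by_contra fun h1 => ?_)
    have h2 : ((x : ℂ) ^ (2 ^ e * m)) ^ 2 = -1 := by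
      have h3 : ((x : ℂ) ^ (2 ^ (e + 1) * m)) ^ 2 = 1 := by
        rw [← pow_mul, show 2 ^ (e + 1) * m * 2 = 2 ^ (e + 1 + 1) * m by ring, ← Units.val_pow_eq_pow_val, h, Units.val_one]
      rw [← pow_mul, show 2 ^ e * m * 2 = 2 ^ (e + 1) * m by ring]
      exact (sq_eq_one_iff.1 h3).resolve_left fun h4 => h1 (Units.ext (by rw [Units.val_pow_eq_pow_val, h4, Units.val_one]))
    have h3 : σ ((x : ℂ) ^ (2 ^ e * m)) = (x : ℂ) ^ (2 ^ e * m) := by rw [map_pow, hx]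
    rw [← Complex.I_sq] at h2
    rcases sq_eq_sq_iff_eq_or_eq_neg.1 h2 with h4 | h4 <;> rw [h4] at h3
    · exact Complex.I_ne_zero (self_eq_neg.1 (h3.symm.trans hσ.2))
    · rw [map_neg, hσ.2, neg_neg] at h3
      exact Complex.I_ne_zero (self_eq_neg.1 h3)

/-- if no coroot has a value of order divisible by `4` then the label is good -/
theorem gd_of_cor {p : ℕ} (hc : Fo p c) {σ : ℂ ≃+* ℂ} (hσ : Sg σ) (h : Cj Ψ c (gal σ c))
    (h4 : ∀ a ∈ Ψ, ¬ 4 ∣ orderOf (chr a.2 c)) : Gd c := by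
  obtain ⟨n, hn, h1⟩ := hc
  obtain ⟨e, m, hm, rfl⟩ := Nat.exists_eq_two_pow_mul_odd (n := n) fun e => hn (e ▸ dvd_zero p)
  obtain ⟨A, hA, h2⟩ := h
  have h3 : ∀ v, chr v c ^ (2 ^ e * m) = 1 := fun v => by rw [← map_pow, h1, map_one]
  have h5 : ∀ a ∈ Ψ, chr a.2 (c ^ (2 * m)) = 1 := fun a ha => by
    obtain ⟨i, j, hi, hj, h6⟩ := exists_dvd_and_dvd_of_dvd_mul (orderOf_dvd_of_pow_eq_one (h3 a.2))
    obtain ⟨l, -, rfl⟩ := (Nat.dvd_prime_pow Nat.prime_two).1 hi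
    have h7 : l ≤ 1 := by_contra fun h8 => h4 a ha (h6 ▸ ((pow_dvd_pow 2 (show 2 ≤ l by omega)).mul_right j))
    rw [map_pow]
    exact orderOf_dvd_iff_pow_eq_one.1 (h6 ▸ mul_dvd_mul (by simpa using pow_dvd_pow 2 h7) hj)
  refine ⟨m * m, hm.mul hm, funext fun j => ?_⟩
  have h6 : σ (c j ^ (2 * m) : ℂˣ) = (c j ^ (2 * m) : ℂˣ) := by
    have h7 := congrArg (fun z : ℂˣ => ((z ^ (2 * m) : ℂˣ) : ℂ)) (h2 (Pi.single j 1))
    simp only [chr_gal, ← map_pow, tl_of_cor h5 hA _, chr_single] at h7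
    exact h7
  have h7 := sg_pow_eq hσ h6 e (by rw [← pow_mul, mul_comm, pow_mul, ← chr_single j c, h3, one_pow])
  rwa [← pow_mul, show 2 * m * (2 * m) = 4 * (m * m) by ring] at h7

theorem sub_dvd_of_int {N : ℤ} {x : Vec R} (h : ∀ a ∈ Ψ, N ∣ a.1 ⬝ᵥ x) (hA : A ∈ WW Ψ) : ∃ u, A *ᵥ x = x + N • u := by
  induction hA using Submonoid.closure_induction with
  | mem y hy =>
    obtain ⟨a, ha, rfl⟩ := hy
    obtain ⟨d, hd⟩ := h a ha
    exact ⟨-(d • a.2), by rw [rfm_vec, hd, mul_smul, smul_neg, sub_eq_add_neg]⟩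
  | one => exact ⟨0, by rw [one_mulVec, smul_zero, add_zero]⟩
  | mul y z _ _ hy hz =>
    obtain ⟨u, hu⟩ := hy
    obtain ⟨v, hv⟩ := hz
    exact ⟨u + y *ᵥ v, by rw [← mulVec_mulVec, hv, mulVec_add, hu, mulVec_smul, smul_add, add_assoc]⟩

end Comb

variable {p : ℕ} [Fact p.Prime] {k : Type} [Field k] [CharP k p] [IsAlgClosed k] {Y : Type} [Group Y] {N : Type}
  [Fintype N] [DecidableEq N] {ρ : Y →* GL N k} {F : MulAut Y} {G : Subgroup Y} {D : Datum p ρ F G}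
  {j : ℕ} {B : Mat D.R} {w : D.W} {c : Lbl D}

/-- **a label which is not quasi-isolated has a core** -/
theorem ctl_of_not_qi {L : LS} (hL : ∀ lam c c', lev (rts D) lam ≠ rts D → L.rel (lev (rts D) lam) c c' →
    Cj (lev (rts D) lam) c c') (h : St D j B) (hc : Fx D w c) (hq : ¬ QI (rts D) c) :
    Ctl p L (rts D) (D.Wm w * B) c := by
  let Λ : Submodule ℤ (Vec D.R) := ⨅ u ∈ {u | Rel D u c c}, LinearMap.ker (D.Wm u - 1).mulVecLin
  have hΛ : ∀ v, v ∈ Λ ↔ ∀ u, Rel D u c c → D.Wm u *ᵥ v = v := fun v => by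
    simp only [Λ, Submodule.mem_iInf, LinearMap.mem_ker, mulVecLin_apply, sub_mulVec, one_mulVec, sub_eq_zero]
    rfl
  obtain ⟨lam, h1, h2⟩ := exists_generic Λ ((finite_rts D).image Prod.fst)
  have h3 : ∀ v ∈ Λ, (D.Wm w * B) *ᵥ v ∈ Λ := fun v hv => (hΛ _).2 fun u hu => by
    have e : D.Wm u * (D.Wm w * D.Mx) = D.Wm w * D.Mx * D.Wm (D.Fw.symm (w⁻¹ * u * w)) := by
      rw [mul_assoc, D.Mx_Wm, MulEquiv.apply_symm_apply, ← mul_assoc, ← mul_assoc, ← D.Wm_mul, ← D.Wm_mul]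
      congr 2
      group
    have h4 : Rel D (D.Fw.symm (w⁻¹ * u * w)) c c := fun x => by
      rw [← hc, mulVec_mulVec, ← e, ← mulVec_mulVec, hu, hc]
    refine smul_right_injective _ h.q_ne ?_
    show ((p : ℤ) ^ j) • _ = ((p : ℤ) ^ j) • _
    rw [← mulVec_smul, ← smul_mulVec, ← h.WM, mulVec_mulVec, e, ← mulVec_mulVec, (hΛ v).1 hv _ h4]
  have h4 : ∀ m, ∀ v ∈ Λ, (D.Wm w * B) ^ m *ᵥ v ∈ Λ := fun m v hv => by
    induction m with
    | zero => rwa [pow_zero, one_mulVec]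
    | succ m ih => rw [pow_succ', ← mulVec_mulVec]; exact h3 _ ih
  refine ⟨lam, lev_ne.2 fun e => hq fun mu hmu a ha => h2 _ ⟨a, ha, rfl⟩ (e a ha) mu ((hΛ _).2 fun u hu =>
    hmu _ (Wm_mem u) hu), (h.nm_iff (lev_sub _ _)).2 fun a ha e => ⟨rt_mem ((D.g_root a ha).act w), ?_⟩,
    fun mu hmu hne c' c'' A hA e1 e2 e3 _ => ?_⟩
  · obtain ⟨n, hn, h5⟩ := h.fin' w
    obtain ⟨n, rfl⟩ := Nat.exists_eq_succ_of_ne_zero hn.ne'
    show D.wt _ ⬝ᵥ lam = 0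
    rw [← one_mulVec lam, ← h5, pow_succ', ← mulVec_mulVec, dotProduct_mulVec, h.wt_g w ha]
    exact h2 _ ⟨_, e.1, rfl⟩ e.2 _ (h4 n _ h1)
  · obtain ⟨u, rfl⟩ := mem_WW.1 hA
    obtain ⟨_, hA1, e1⟩ := hL mu _ _ hne e1
    obtain ⟨_, hA2, e2⟩ := hL mu _ _ hne e2
    obtain ⟨u1, hu1, rfl⟩ := mem_WW_lev.1 hA1
    obtain ⟨u2, hu2, rfl⟩ := mem_WW_lev.1 hA2
    have h5 : Rel D (u2⁻¹ * (u * u1)) c c := (Rel.trans e1 e3).trans (Rel.symm e2)
    obtain ⟨u3, hu3, e4⟩ := mem_WW_lev.1 (WW_mono hmu (mem_WW_lev.2 ⟨_, (hΛ _).1 h1 _ h5, rfl⟩))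
    refine mem_WW_lev.2 ⟨u2 * u3 * u1⁻¹, mul_mem (mul_mem hu2 hu3) (inv_mem hu1), ?_⟩
    rw [D.Wm_injective e4]
    congr 1
    group

/-- `LF` if the integral roots of a vector form a Levi subsystem -/
theorem lf_of_int (hI : ∀ (n : ℤ) (x : Vec D.R), ∃ lam, ∀ a ∈ rts D, (n ∣ a.1 ⬝ᵥ x ↔ a.1 ⬝ᵥ lam = 0))
    (hc : Fx D w c) (hg : Gd c) : LF (rts D) D.Mx (D.Wm w) c := by
  intro A hA e x h1 h2
  obtain ⟨lam, h3⟩ := hI (2 ^ e) x
  have h4 : ∀ a ∈ rts D, (2 : ℤ) ^ e ∣ a.1 ⬝ᵥ x := fun a ha => (h3 a ha).2 (h2 lam (fun b hb => (h3 b hb).1) a ha)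
  refine ⟨fun a ha => (h4 a ha).mul_left 4, fun v hv => ?_⟩
  obtain ⟨w', rfl⟩ := mem_WW.1 hA
  choose u hu using h1
  obtain ⟨u', hu'⟩ := sub_dvd_of_int h4 (Wm_mem (w * w'⁻¹))
  have h5 : (D.Wm w' * D.Mx) *ᵥ x = x + (2 : ℤ) ^ e • u := by
    rw [← sub_eq_iff_eq_add', ← one_mulVec x, mulVec_mulVec, mul_one, ← sub_mulVec]
    exact funext hu
  have h6 : (D.Wm w * D.Mx - 1) *ᵥ x = (2 : ℤ) ^ e • (u' + D.Wm (w * w'⁻¹) *ᵥ u) := by
    rw [sub_mulVec, one_mulVec, show D.Wm w = D.Wm (w * w'⁻¹) * D.Wm w' by rw [← D.Wm_mul, inv_mul_cancel_right],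
      mul_assoc, ← mulVec_mulVec, h5, mulVec_add, hu', mulVec_smul, smul_add]
    abel
  have h7 : chr v c ^ 2 ^ e = 1 := by
    rw [← chr_nsmul, ← natCast_zsmul, Nat.cast_pow, Nat.cast_ofNat, ← hv, sub_mulVec, one_mulVec, chr_sub, hc, mul_inv_cancel]
  rw [mulVec_smul, h6, smul_comm] at hv
  obtain ⟨m, hm, h8⟩ := hg
  have h9 : chr v c ^ m = 1 := by
    rw [← smul_right_injective _ (pow_ne_zero e two_ne_zero) hv, chr_zsmul, show (4 : ℤ) = (4 : ℕ) from rfl, zpow_natCast,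
      ← pow_mul, ← map_pow, h8, map_one]
  rw [← pow_one (chr v c), ← (Nat.Coprime.pow_left e (Nat.coprime_two_left.2 hm)).gcd_eq_one]
  exact pow_gcd_eq_one.2 ⟨h7, h9⟩

end Cfsg.Agent.HZ.L
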