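import Cfsg.Agent.HZ.L.SL.QI

/-!
# HZ/L/SL: the axioms of the label system (helper34)

`TA.perm` (the Weyl group permutes the coordinates inside the blocks), `TA.levi`, `TA.ex`, `TA.int`, **`fm`**.
-/

set_option autoImplicit false
set_option linter.unusedSectionVars false
set_option maxHeartbeats 200000

namespace Cfsg.Agent.HZ.L.SL

open Cfsg Cfsg.Agent.DL Cfsg.Agent.DL.PP Matrix

theorem rt_dot {ι : Type} [Fintype ι] [DecidableEq ι] (i j : ι) (x : ι → ℤ) : rt i j ⬝ᵥ x = x i - x j := by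
  rw [rt, sub_dotProduct, single_dotProduct, single_dotProduct, one_mul, one_mul]

theorem rt_apply {ι : Type} [DecidableEq ι] (i j l : ι) : rt i j l = (if l = i then 1 else 0) - if l = j then 1 else 0 := by
  rw [rt, Pi.sub_apply, Pi.single_apply, Pi.single_apply]

theorem sum_rt {ι : Type} [Fintype ι] [DecidableEq ι] (i j : ι) : ∑ l, rt i j l = 0 := by simp [rt_apply]

namespace TA

variable {R : Type} [Fintype R] [DecidableEq R] {Ψ : RS R} {A B : Mat R} (T : TA Ψ B)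

theorem dot (i j : Fin T.n) (v : Vec R) : (rt i j ᵥ* T.J) ⬝ᵥ v = (T.J *ᵥ v) i - (T.J *ᵥ v) j := by
  rw [← dotProduct_mulVec, rt_dot]

theorem inj' {v v' : Vec R} (h : T.J *ᵥ v = T.J *ᵥ v') : v = v' :=
  sub_eq_zero.1 (T.inj _ (by rw [mulVec_sub, h, sub_self]))

/-- the coroots -/
noncomputable def co (i j : Fin T.n) : Vec R := ((T.img (rt i j)).2 (sum_rt i j)).choose

theorem J_co (i j : Fin T.n) : T.J *ᵥ T.co i j = rt i j := ((T.img (rt i j)).2 (sum_rt i j)).choose_spec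

theorem rt_mem {i j : Fin T.n} (h : i ≠ j) (e : T.blk i = T.blk j) : (rt i j ᵥ* T.J, T.co i j) ∈ Ψ :=
  (T.mem _).2 ⟨i, j, h, e, rfl, T.J_co i j⟩

/-- vectors with prescribed differences -/
theorem exists_vec (r : Fin T.n → ℤ) : ∃ v, ∀ i j, (T.J *ᵥ v) i - (T.J *ᵥ v) j = T.n * (r i - r j) := by
  obtain ⟨v, h⟩ := (T.img fun i => T.n * r i - ∑ l, r l).2 (by simp [Finset.mul_sum])
  exact ⟨v, fun i j => by rw [h]; ring⟩

/-- `A` acts as the permutation `π` -/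
def Act (A : Mat R) (π : Equiv.Perm (Fin T.n)) : Prop := ∀ v i, (T.J *ᵥ (A *ᵥ v)) (π i) = (T.J *ᵥ v) i

theorem act_one : T.Act 1 1 := fun v i => by rw [one_mulVec]; rfl

variable {T} in
theorem Act.mul {A' : Mat R} {π π' : Equiv.Perm (Fin T.n)} (h : T.Act A π) (h' : T.Act A' π') : T.Act (A * A') (π * π') :=
  fun v i => by rw [← mulVec_mulVec, Equiv.Perm.mul_apply, h, h']

theorem act_rfm {a : Vec R × Vec R} {i j : Fin T.n} (h1 : a.1 = rt i j ᵥ* T.J) (h2 : T.J *ᵥ a.2 = rt i j) :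
    T.Act (rfm a) (Equiv.swap i j) := fun v l => by
  rw [rfm_vec, mulVec_sub, mulVec_smul, h1, h2, T.dot, Pi.sub_apply, Pi.smul_apply, rt_apply, Equiv.swap_apply_def]
  split_ifs <;> simp_all

theorem perm (hA : A ∈ WW Ψ) : ∃ π, (∀ i, T.blk (π i) = T.blk i) ∧ T.Act A π := by
  induction hA using Submonoid.closure_induction with
  | mem x hx =>
    obtain ⟨a, ha, rfl⟩ := hx
    obtain ⟨i, j, -, h1, h2, h3⟩ := (T.mem a).1 ha
    refine ⟨_, fun l => ?_, T.act_rfm h2 h3⟩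
    rw [Equiv.swap_apply_def]
    split_ifs <;> simp_all
  | one => exact ⟨1, fun _ => rfl, T.act_one⟩
  | mul x y _ _ hx hy =>
    obtain ⟨π, h1, h2⟩ := hx
    obtain ⟨π', h3, h4⟩ := hy
    exact ⟨π * π', fun i => (h1 _).trans (h3 i), h2.mul h4⟩

include T in
/-- the Levi subsystems -/
theorem levi (hA : A ∈ WW Ψ) {lam : Vec R} (h : Nm (A * B) (lev Ψ lam)) : Nonempty (TA (lev Ψ lam) (A * B)) := by
  obtain ⟨π, -, h1⟩ := T.perm hA
  have h2 : ∀ a, a ∈ lev Ψ lam ↔ ∃ i j, i ≠ j ∧ Encodable.encode (T.blk i, (T.J *ᵥ lam) i) =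
      Encodable.encode (T.blk j, (T.J *ᵥ lam) j) ∧ a.1 = rt i j ᵥ* T.J ∧ T.J *ᵥ a.2 = rt i j := fun a => by
    simp only [Encodable.encode_inj, Prod.mk.injEq]
    refine ⟨fun e => ?_, fun ⟨i, j, e1, e2, e3⟩ => ⟨(T.mem a).2 ⟨i, j, e1, e2.1, e3⟩, ?_⟩⟩
    · obtain ⟨i, j, e1, e2, e3⟩ := (T.mem a).1 e.1
      exact ⟨i, j, e1, ⟨e2, sub_eq_zero.1 (by rw [← T.dot, ← e3.1, e.2])⟩, e3⟩
    · rw [e3.1, T.dot, e2.2, sub_self]
  have h3 : ∀ v i, (T.J *ᵥ ((A * B) *ᵥ v)) ((π * T.π) i) = T.ε * (T.J *ᵥ v) i := fun v i => by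
    rw [← mulVec_mulVec, Equiv.Perm.mul_apply, h1, T.hB]
  refine ⟨⟨T.n, T.J, _, T.ε, π * T.π, T.inj, T.img, h2, h3, fun i j e => ?_⟩⟩
  by_cases hij : i = j
  · rw [hij]
  obtain ⟨b, hb, e1, -⟩ := h _ ((h2 (_, T.co i j)).2 ⟨i, j, hij, e, rfl, T.J_co i j⟩)
  obtain ⟨l, m, -, e2, -, e3⟩ := (h2 b).1 hb
  have h4 : ∀ x, rt i j x ≠ 0 → (π * T.π) x = l ∨ (π * T.π) x = m := fun x hx => by
    by_contra h5
    have h6 := h3 (T.co i j) x
    rw [e1, e3, T.J_co, rt_apply, if_neg fun e => h5 (.inl e), if_neg fun e => h5 (.inr e), sub_self] at h6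
    exact hx ((mul_eq_zero.1 h6.symm).resolve_left T.ε.ne_zero)
  rcases h4 i (by simp [rt_apply, hij]) with h5 | h5 <;> rcases h4 j (by simp [rt_apply, Ne.symm hij]) with h6 | h6 <;>
    rw [h5, h6]
  exacts [e2, e2.symm]

include T in
theorem ex : Ex Ψ := by
  have h1 : ∀ a ∈ Ψ, a.1 = (T.J *ᵥ a.2) ᵥ* T.J ∧ (T.J *ᵥ a.2, T.J *ᵥ a.2) ∈ std .D fun i => T.blk i + 1 := fun a ha => by
    obtain ⟨i, j, e1, e2, e3, e4⟩ := (T.mem a).1 ha
    rw [e4]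
    exact ⟨e3, .inl ⟨i, j, e1, congrArg (· + 1) e2, rfl⟩⟩
  refine ⟨T.n, .D, fun i => T.blk i + 1, ⟨Equiv.ofBijective (fun a => ⟨_, (h1 a.1 a.2).2⟩) ⟨fun a b e => ?_, ?_⟩,
    fun a b => ?_⟩, .inl (by simp)⟩
  · have h2 : T.J *ᵥ a.1.2 = T.J *ᵥ b.1.2 := congrArg (·.1.1) e
    exact Subtype.ext (Prod.ext (by rw [(h1 _ a.2).1, (h1 _ b.2).1, h2]) (T.inj' h2))
  · rintro ⟨_, ⟨i, j, e1, e2, rfl⟩ | ⟨i, j, s, -, e, -⟩ | ⟨i, s, e, -⟩⟩
    · exact ⟨⟨_, T.rt_mem e1 (Nat.succ_injective e2)⟩, Subtype.ext (Prod.ext (T.J_co i j) (T.J_co i j))⟩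
    · exact absurd e (Nat.succ_ne_zero _)
    · exact absurd e (Nat.succ_ne_zero _)
  · rw [(h1 _ a.2).1, ← dotProduct_mulVec]
    rfl

include T in
/-- the integral roots form a Levi subsystem -/
theorem int (n : ℤ) (x : Vec R) : ∃ lam, ∀ a ∈ Ψ, (n ∣ a.1 ⬝ᵥ x ↔ a.1 ⬝ᵥ lam = 0) := by
  obtain ⟨lam, h⟩ := T.exists_vec fun i => (T.J *ᵥ x) i % n
  refine ⟨lam, fun a ha => ?_⟩
  obtain ⟨i, j, -, -, e, -⟩ := (T.mem a).1 ha
  rw [e, T.dot, T.dot, h, mul_eq_zero, or_iff_right (Nat.cast_ne_zero.2 i.pos.ne'), sub_eq_zero, ← Int.modEq_iff_dvd]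
  exact eq_comm

end TA

variable {p : ℕ} [Fact p.Prime]

theorem ok : OK p L := fun _ _ _ _ _ ⟨T⟩ =>
  ⟨fun _ _ h => Cj.symm' subset_rfl h, fun _ _ _ h h' => Cj.trans h h', fun v _ _ h => cj_iff.2 ⟨v, h⟩,
    fun w _ h => T.levi (Wm_mem w) h, fun _ _ _ _ _ h => Cj.mono h (lev_sub _ _)⟩

theorem tri : AllD p fun D => ∀ j B, St D j B → L.adm (rts D) B → Tri D L B := fun D _ _ _ h ⟨T⟩ => by
  refine ⟨fun c c' e _ _ hg => ?_, fun w c hc hg σ hσ e => ?_, fun w c hc hg => .inr (lf_of_int T.int hc hg)⟩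
  · obtain ⟨_, -, e⟩ := Cj.symm' subset_rfl e
    exact hg.tl e
  · by_cases hq : QI (rts D) c
    · exact .inr ⟨hq, by_contra fun h1 => hg (gd_of_cor (fo_of_fx hc) hσ e fun a ha h2 => h1 ⟨a, ha, h2⟩)⟩
    · exact .inl (ctl_of_not_qi (fun _ _ _ _ => id) h hc hq)

/-- **the family of `SL` and `SU`** -/
theorem fm (hT : AllD p fun D => ∀ j B, St D j B → L.adm (rts D) B → Ht D L B) : Fm p L :=
  ⟨ok, fun _ _ _ _ _ ⟨T⟩ => .inl T.ex, tri, hT⟩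

end Cfsg.Agent.HZ.L.SL
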