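import Cfsg.Agent.HZ.L.SL.Dat
import Cfsg.Agent.KZ.Dat.GlS
import Cfsg.Agent.HZ.Red.Ind

/-!
# HZ/L/SL: the finite groups (helper34)

`hh_SL`, `hh_SU` : the statement for `SL (n + 1) F` and `SU (n + 1) F q` from the result for the label system.
-/

set_option autoImplicit false
set_option linter.unusedSectionVars false
set_option maxHeartbeats 200000

namespace Cfsg.Agent.HZ.L.SL

open Cfsg Matrix Cfsg.Agent.DL Cfsg.Agent.ODD.C2 Cfsg.Agent.KZ.Dat Cfsg.Agent.ODD.Red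

attribute [local instance] finite_WA

/-- isomorphic groups -/
theorem hh_congr {M : Ideal AlgInt} (hM : IsPModular 2 M) {G H : Type} [Group G] [Group H] [Finite G] (e : G ≃* H)
    (h : HH M G) : HH M H := by
  have : Finite H := Finite.of_equiv G e.toEquiv
  intro χ hχ ⟨y, hy⟩ σ hσ hfix τ hτ g
  have h1 : IsIrrCharacter G fun x => χ (e x) := isIrr_comp' e.toMonoidHom e.surjective hχ
  have h2 := h _ h1 ⟨_, hy.quot hM e.symm.toMonoidHom e.symm.surjective hχ h1 fun g => congrArg χ (e.apply_symm_apply g)⟩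
    σ hσ (fun x => hfix _) τ hτ (e.symm g)
  rwa [e.apply_symm_apply] at h2

theorem ne_two {p e q : ℕ} (he : 0 < e) (h : p ^ e ∣ q) (ho : Odd q) : p ≠ 2 := by
  rintro rfl
  exact ho.not_two_dvd_nat ((dvd_pow_self 2 he.ne').trans h)

variable (hR : ∀ (p : ℕ) [Fact p.Prime], p ≠ 2 → Res p L)
include hR

theorem hh_SL (M : Ideal AlgInt) (hM : IsPModular 2 M) (F : Type) [Field F] [Fintype F] (n : ℕ) (ho : Odd (Fintype.card F)) :
    HH M (SpecialLinearGroup (Fin (n + 1)) F) := by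
  obtain ⟨p, _, e, k, _, _, _, f, hk, he, hF⟩ := hasL F
  have := (datS hk he (smS n).sy_one).amb.finite_GF (GS n k)
  have := Fintype.ofFinite (GF (1 * frP _ p k e) (GS n k))
  have h1 : (ιL n f).range = GF (1 * frP _ p k e) (GS n k) := Subgroup.ext fun y => (mem_ιL f hF y).trans
    ⟨fun h => ⟨mem_GS.2 h.2, h.1.2⟩, fun h => ⟨⟨mem_GA y, h.2⟩, mem_GS.1 h.1⟩⟩
  exact hh_congr hM ((MonoidHom.ofInjective (ιL_inj f)).trans (MulEquiv.subgroupCongr h1)).symm
    (hR p (ne_two he hF.symm.dvd ho) _ e _ (stL hk he) (admL hk he) M hM)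

theorem hh_SU (M : Ideal AlgInt) (hM : IsPModular 2 M) (F : Type) [Field F] [Fintype F] (n q : ℕ) (ho : Odd (Fintype.card F))
    (hq : Fintype.card F = q ^ 2) : HH M (SU (n + 1) F q) := by
  obtain ⟨p, _, e, k, _, _, _, f, hk, he, rfl⟩ := hasU F hq
  have := (datS hk he (syS (n := n))).amb.finite_GF (GS n k)
  have := Fintype.ofFinite (GF (γA n k * frP _ p k e) (GS n k))
  have h1 : (ιU (lz n hk he) f (p ^ e)).range = GF (γA n k * frP _ p k e) (GS n k) := Subgroup.ext fun y =>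
    (mem_ιU f hk he hq y).trans ⟨fun h => ⟨mem_GS.2 h.2, h.1.2⟩, fun h => ⟨⟨mem_GA y, h.2⟩, mem_GS.1 h.1⟩⟩
  exact hh_congr hM ((MonoidHom.ofInjective (ιU_inj _ f _)).trans (MulEquiv.subgroupCongr h1)).symm
    (hR p (ne_two he (hq ▸ dvd_pow_self _ two_ne_zero) ho) _ e _ (stU hk he) (admU hk he) M hM)

end Cfsg.Agent.HZ.L.SL
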