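import Cfsg.Agent.HZ.Exc.Main
import Cfsg.Agent.HZ.Alt.Main
import Cfsg.Agent.HZ.Red.Ind
import Cfsg.Agent.H95.StemCover
import Cfsg.Agent.S2086
import Cfsg.Agent.S2089
import Cfsg.Agent.S0248
import Cfsg.Agent.S0254
import Cfsg.Agent.S0279
import Cfsg.Agent.S0280
import Cfsg.Agent.H259.NatMod
import Cfsg.Agent.LieClassical.HermPerfect

/-!
# HZ/L/SL: the rows of the linear and unitary groups from the statement for `SL` and `SU` (helper18)

* `Good.lift`, `HH.quot` : good elements lift through central extensions, `HH` passes to central quotients;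
* `hh_of_cover` : every quasisimple group over `Y / Z(Y)` is a quotient of `Y` when `Z(Y)` is the multiplier;
* `psl_of`, `psu_of`.
-/

set_option autoImplicit false

namespace Cfsg.Agent.HZ.L.SL

open Cfsg Subgroup Cfsg.Agent.ODD Cfsg.Agent.ODD.Red Cfsg.Agent.Characters Cfsg.Agent.Characters.Core
  Cfsg.Agent.Blocks

universe u v

variable {M : Ideal AlgInt} {Y : Type u} [Group Y] [Finite Y] {X : Type v} [Group X]

/-- an element of odd order has a lift of odd order -/
theorem exists_odd_lift (φ : Y →* X) (hφ : Function.Surjective φ) {y : X} (ho : Odd (orderOf y)) :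
    ∃ x, φ x = y ∧ Odd (orderOf x) := by
  have : Fact (Nat.Prime 2) := ⟨Nat.prime_two⟩
  obtain ⟨g, rfl⟩ := hφ y
  obtain ⟨u, x, hx, hc, ⟨k, hk⟩, h2⟩ := PPart.exists_isPPart 2 g
  have hx2 : Odd (orderOf x) := Nat.odd_iff.2 (by omega)
  refine ⟨x, ?_, hx2⟩
  have h1 : φ u = φ g * (φ x)⁻¹ := by rw [← hx, map_mul, mul_inv_cancel_right]
  have h3 : Commute (φ g) (φ x) := by
    rw [← hx]
    exact (hc.mul_left (Commute.refl x)).map φ
  have h4 : φ u ^ (orderOf (φ g) * orderOf x) = 1 := by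
    rw [h1, h3.inv_right.mul_pow, pow_mul, pow_orderOf_eq_one, one_pow, one_mul, inv_pow, ← map_pow, mul_comm, pow_mul,
      pow_orderOf_eq_one, one_pow, map_one, inv_one]
  have h5 : φ u ^ 2 ^ k = 1 := by rw [← map_pow, ← hk, pow_orderOf_eq_one, map_one]
  have h6 := pow_gcd_eq_one.2 ⟨h5, h4⟩
  rw [(Nat.Coprime.pow_left k (Nat.coprime_two_left.2 (ho.mul hx2))).gcd_eq_one, pow_one] at h6
  rw [← hx, map_mul, h6, one_mul]

/-- good elements of odd order lift through a central extension -/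
theorem good_lift [Finite X] (hM : IsPModular 2 M) (φ : Y →* X) (hφ : Function.Surjective φ) (hk : φ.ker ≤ center Y)
    {χ : X → ℂ} (hχ : IsIrrCharacter X χ) {x : Y} (ho : Odd (orderOf x)) (hy : Good M χ (φ x)) :
    Good M (fun g => χ (φ g)) x := by
  have : Fact (Nat.Prime 2) := ⟨Nat.prime_two⟩
  refine good_of_le hM (isIrr_comp' φ hφ hχ) hy.1 ?_
  rw [charDegree_congr (χ := fun g => χ (φ g)) (ψ := χ) (by rw [map_one]), ← hy.nu hM hχ,
    ← index_comap_of_surjective _ hφ]
  set K := (centralizer ({φ x} : Set X)).comap φ with hK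
  obtain ⟨P⟩ : Nonempty (Sylow 2 K) := inferInstance
  have h1 : (P : Subgroup K).map K.subtype ≤ centralizer ({x} : Set Y) := by
    rintro _ ⟨a, ha, rfl⟩
    obtain ⟨k, h2⟩ := P.isPGroup' ⟨a, ha⟩
    have h3 : (a : Y) ^ 2 ^ k = 1 := congrArg (fun t : P => ((t : K) : Y)) h2
    have h4 : φ (K.subtype a) * φ x = φ x * φ (K.subtype a) := mem_centralizer_singleton_iff.1 a.2
    refine mem_centralizer_singleton_iff.2 (Alt.comm_of_coprime (hk ?_) h3 (pow_orderOf_eq_one x)
      (Nat.Coprime.pow_left k (Nat.coprime_two_left.2 ho)))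
    rw [MonoidHom.mem_ker, map_mul, map_mul, map_mul, map_inv, map_inv, h4]
    group
  have h2 := index_dvd_of_le h1
  rw [index_map_subtype] at h2
  have h3 := nu_le_of_dvd (mul_ne_zero index_ne_zero_of_finite index_ne_zero_of_finite) h2
  rwa [Nat.factorization_mul index_ne_zero_of_finite index_ne_zero_of_finite, Finsupp.add_apply,
    Nat.factorization_eq_zero_of_not_dvd P.not_dvd_index, zero_add] at h3

/-- **`HH` passes to central quotients** -/
theorem hh_quot [Finite X] (hM : IsPModular 2 M) (φ : Y →* X) (hφ : Function.Surjective φ) (hk : φ.ker ≤ center Y)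
    (h : HH M Y) : HH M X := by
  intro χ hχ h0 σ hσ hfix τ hτ g
  obtain ⟨y, ho, hy⟩ := h0.odd hM hχ
  obtain ⟨x, rfl, hx⟩ := exists_odd_lift φ hφ ho
  obtain ⟨g, rfl⟩ := hφ g
  exact h _ (isIrr_comp' φ hφ hχ) ⟨x, good_lift hM φ hφ hk hχ hx hy⟩ σ hσ (fun t => hfix _) τ hτ g

/-- every quasisimple group over `Y / Z(Y)` is a central quotient of `Y` if `Z(Y)` has the order of the multiplier -/
theorem hh_of_cover [Finite X] (hM : IsPModular 2 M) (hY : commutator Y = ⊤) {m : ℕ}
    (hA : HasCyclicSchurMultiplier (Y ⧸ center Y) m) (hm : Nat.card (center Y) = m) (h : HH M Y)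
    (hX : IsQuasisimple X) (e : X ⧸ center X ≃* Y ⧸ center Y) : HH M X := by
  have h1 : (QuotientGroup.mk' (center Y)).ker ≤ center Y := by rw [QuotientGroup.ker_mk']
  have h2 : commutator (Y ⧸ center Y) = ⊤ := by
    have h3 := map_commutator_eq Y (QuotientGroup.mk' (center Y))
    rw [hY, ← MonoidHom.range_eq_map, MonoidHom.range_eq_top.2 (QuotientGroup.mk'_surjective _)] at h3
    rw [commutator_def]
    exact h3.symm
  have h0 : m ≠ 0 := hm ▸ Nat.card_pos.ne'
  have : NeZero m := ⟨h0⟩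
  obtain ⟨φ, hφ, h3⟩ := H95.StemCover.exists_cover' h2 hA (QuotientGroup.mk' (center Y))
    (H95.StemCover.isStem hY (QuotientGroup.mk'_surjective _) h1)
    (by rw [QuotientGroup.ker_mk', hm, Nat.card_congr Multiplicative.toAdd, Nat.card_zmod])
    hX.1.commutator_eq_top (e.toMonoidHom.comp (QuotientGroup.mk' _))
    (e.surjective.comp (QuotientGroup.mk'_surjective _))
    fun z hz => (QuotientGroup.eq_one_iff z).1 (e.map_eq_one_iff.1 hz)
  refine hh_quot hM φ hφ (fun z hz => h1 ?_) h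
  rw [MonoidHom.mem_ker, ← h3, MonoidHom.mem_ker.1 hz, map_one]

/-- **the row of the linear groups** -/
theorem psl_of (h : ∀ M, IsPModular 2 M → ∀ (F : Type) [Field F] [Fintype F] (n : ℕ), Odd (Fintype.card F) →
    HH M (Matrix.SpecialLinearGroup (Fin (n + 1)) F)) : Row PslO := by
  rintro M hM X _ _ hX ⟨F, _, _, n, hF, hn, h4, ⟨e⟩⟩ ih
  by_cases h9 : n = 2 ∧ Fintype.card F = 9
  · obtain ⟨rfl, h9⟩ := h9
    obtain ⟨e'⟩ := S0254.result h9
    exact Alt.rowAlt M hM X hX ⟨6, by norm_num, ⟨e.trans e'⟩⟩ ih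
  obtain ⟨n, rfl⟩ : ∃ m, n = m + 1 := ⟨n - 1, by omega⟩
  refine (hh_of_cover hM ?_ (S2086.result rfl _ hn h4 ?_) (S0280.card_center_SL n.succ_pos) (h M hM F n hF) hX e).hf
  · rcases hn.eq_or_lt with h5 | h5
    · obtain rfl : n = 1 := by omega
      exact H259.NatMod.commutator_eq_top (h4 rfl)
    · exact S0248.result _ h5
  · obtain ⟨k, hk⟩ := hF
    simp only [Set.mem_insert_iff, Set.mem_singleton_iff, Prod.mk.injEq]
    omega

/-- **the row of the unitary groups** -/
theorem psu_of (h : ∀ M, IsPModular 2 M → ∀ (F : Type) [Field F] [Fintype F] (n q : ℕ), Odd (Fintype.card F) →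
    Fintype.card F = q ^ 2 → HH M (SU (n + 1) F q)) : Row PsuO := by
  rintro M hM X _ _ hX ⟨F, _, _, n, q, hF, hq, hn, ⟨e⟩⟩ ih
  by_cases h9 : n = 4 ∧ q = 3
  · obtain ⟨rfl, rfl⟩ := h9
    exact Exc.u43 F hq M hM X hX ⟨e⟩ ih
  have h2 : q ≠ 2 := by
    rintro rfl
    rw [hq] at hF
    exact absurd hF (by decide)
  obtain ⟨n, rfl⟩ : ∃ m, n = m + 1 := ⟨n - 1, by omega⟩
  refine (hh_of_cover hM (LieClassical.HermPerfect.commutator_SU_eq_top hq hn fun h => h2 h.2)
    (S2089.result _ q hq hn (fun h => h2 h.2) ?_) (S0279.result hq _ hn) (h M hM F n q hF hq) hX e).hf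
  simp only [Set.mem_insert_iff, Set.mem_singleton_iff, Prod.mk.injEq]
  omega

end Cfsg.Agent.HZ.L.SL
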