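import Cfsg.Agent.HZ.L.SL.Fm
import Cfsg.Agent.KZ.Dat.GlD

/-!
# HZ/L/SL: the data of `SL (n + 1)` and `SU (n + 1)` (helper34)

`smS n` : the natural module in the coordinates of the simple coroots; `mem_GS` (determinant one); `datS`, `taS`.
-/

set_option autoImplicit false
set_option linter.unusedSectionVars false
set_option maxHeartbeats 200000

namespace Cfsg.Agent.HZ.L.SL

open CoxeterSystem Cfsg.Agent.ChevalleyStructure.CoxeterGeom Cfsg.Agent.Tits.Roots Matrix Cfsg.Agent.LangThm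
  Cfsg.Agent.DL Cfsg.Agent.Nodes.RootsA Cfsg.Agent.ODD.C2 Cfsg.Agent.ODD.C2.GlA Cfsg.Agent.KZ.Dat
open Cfsg.Agent.LieRecognition.BNCox (cA)

attribute [local instance] finite_WA

variable {n : ℕ}

/-- the simple coroots as columns -/
def JA (n : ℕ) : Matrix (Fin (n + 1)) (Fin n) ℤ := of fun a i => cwA i a

theorem JA_sr (i : Fin n) : JA n *ᵥ Pi.single i 1 = cwA i := mulVec_single_one _ _

theorem JA_vec (v : Fin n → ℤ) : JA n *ᵥ v = wtA n v :=
  ext_sr (f := fun v => JA n *ᵥ v) (mulVec_add _) (map_add _) (fun j => (JA_sr j).trans (wtA_sr j).symm) v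

theorem sum_wtA (v : Fin n → ℤ) : ∑ a, wtA n v a = 0 :=
  ext_sr (f := fun v => ∑ a, wtA n v a) (g := fun _ => 0) (fun a b => by simp [Finset.sum_add_distrib]) (by simp)
    (fun j => by rw [wtA_sr]; exact sum_rt _ _) v

theorem JA_img (x : Fin (n + 1) → ℤ) : (∃ v, JA n *ᵥ v = x) ↔ ∑ i, x i = 0 := by
  refine ⟨fun ⟨v, h⟩ => by rw [← h, JA_vec, sum_wtA], fun h => ⟨∑ a, x a • rtA a 0, funext fun b => ?_⟩⟩
  simp only [JA_vec, map_sum, map_zsmul, wtA_rtA, Finset.sum_apply, Pi.smul_apply, Pi.sub_apply, smul_eq_mul, mul_sub,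
    Finset.sum_sub_distrib, ← Finset.sum_mul, h, Pi.single_apply]
  simp

theorem JA_inj {x y : Fin (n + 1) → ℤ} (h : x ᵥ* JA n = y ᵥ* JA n) (e : ∑ i, x i = ∑ i, y i) : x = y := by
  obtain ⟨v, h1⟩ := (JA_img (x - y)).2 (by simp [Finset.sum_sub_distrib, e])
  refine sub_eq_zero.1 (dotProduct_self_eq_zero.1 ?_)
  nth_rewrite 2 [← h1]
  rw [dotProduct_mulVec, sub_vecMul, h, sub_self, zero_dotProduct]

theorem JA_dot (x : Fin (n + 1) → ℤ) (i : Fin n) : (x ᵥ* JA n) ⬝ᵥ Pi.single i 1 = x ⬝ᵥ cwA i := by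
  rw [← dotProduct_mulVec, JA_sr]

/-- **the natural module of `SL (n + 1)`** -/
def smS (n : ℕ) : Sm (AA n) (Fin n) (Fin (n + 1)) where
  wt := AddMonoidHom.mk' (fun a => wtA n a ᵥ* JA n) fun a b => by rw [map_add, add_vecMul]
  cw i := Pi.single i 1
  pair i a := (JA_dot _ i).trans ((mnA n).pair i a)
  μ a := Pi.single a 1 ᵥ* JA n
  inj a b h := (mnA n).inj (JA_inj h (by simp [mnA]))
  σ := (mnA n).σ
  hσ i a := by
    rw [JA_dot]
    exact (congrArg (· ᵥ* JA n) ((mnA n).hσ i a)).trans (by rw [sub_vecMul, smul_vecMul]; rfl)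
  bd i a := by rw [JA_dot]; exact (mnA n).bd i a
  nt i := ((mnA n).nt i).imp fun a h => (JA_dot _ i).trans h
  span j := ⟨fun a => if a.val ≤ j.val then 1 else 0, funext fun i => by
    have h := czA (sr i) j
    rw [show (mnA n).wt (sr i) = _ from wtA_sr i, sr, Pi.single_apply] at h
    rw [Pi.single_apply, if_congr eq_comm rfl rfl, ← h, dotProduct_comm]
    simp [JA, dotProduct, ite_apply]⟩
  s _ _ := 1
  symm _ _ := rfl
  L _ := True
  sub _ _ _ _ := trivial
  br _ _ _ _ := trivial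
  tri _ _ _ _ := trivial

theorem st_iff (x : Fin n → ℤ) (a c : Fin (n + 1)) : (smS n).St x a c ↔ (smA n).St x a c :=
  ⟨fun h => JA_inj (h.trans (add_vecMul (JA n) (Pi.single c 1) (wtA n x)).symm) (by
    show ∑ i, (Pi.single a 1 : Fin (n + 1) → ℤ) i = ∑ i, ((Pi.single c 1 : Fin (n + 1) → ℤ) + wtA n x) i
    simp [Finset.sum_add_distrib, sum_wtA]), fun h => (congrArg (· ᵥ* JA n) h).trans (add_vecMul _ _ _)⟩

theorem e_eq (x : Fin n → ℤ) : (smS n).e x = (smA n).e x := Matrix.ext fun a c => if_congr (st_iff x a c) rfl rfl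

theorem okS (n : ℕ) : (smS n).Ok (csA n) (isCartan n) where
  mem _ _ := trivial
  root z hz X _ hX := e_eq z ▸ (okA n).root z hz X trivial fun a c h => hX a c (mt (st_iff z a c).1 h)
  non x y hx hy h0 h1 X _ hX := (okA n).non x y hx hy h0 h1 X trivial fun a c h => hX a c (mt (st_iff _ a c).1 h)

variable {k : Type} [Field k]

theorem x_eq {a : Fin n → ℤ} (ha : IsRoot (csA n) (isCartan n) a) (u : k) : (smS n).x k a u = (smA n).x k a u :=
  Units.ext (by rw [(smS n).coe_x ha, (smA n).coe_x ha, Sm.ek, Sm.ek, e_eq])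

theorem μ_dot (a : Fin (n + 1)) (v : Fin n → ℤ) : (smS n).μ a ⬝ᵥ v = wtA n v a := by
  rw [← JA_vec]
  exact (dotProduct_mulVec (Pi.single a 1) (JA n) v).symm.trans (by rw [single_dotProduct, one_mul])

variable (n k) in
/-- the algebraic group -/
noncomputable abbrev GS : Subgroup (GL (Fin (n + 1)) k) := (smS n).G k (csA n) (isCartan n)

theorem mem_GS {y : GL (Fin (n + 1)) k} : y ∈ GS n k ↔ GeneralLinearGroup.det y = 1 := by
  refine ⟨fun h => (smS n).G_le (H := GeneralLinearGroup.det.ker) (fun c => Units.ext ?_) (fun a ha u => Units.ext ?_) h,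
    fun h => ?_⟩
  · rw [GeneralLinearGroup.val_det_apply, Mn.coe_τ, det_diagonal, ← Units.coe_prod, ← chr_sum]
    have : ∑ a, (smS n).μ a = 0 := funext fun i => by
      simpa [← μ_dot] using sum_wtA (Pi.single i 1)
    rw [this, chr_zero]
  · obtain ⟨b, c, hbc, rfl⟩ := exists_of_isRoot _ _ ha
    rw [GeneralLinearGroup.val_det_apply, x_eq ha, coe_xa hbc, det_transvection_of_ne _ _ hbc, Units.val_one]
  · obtain ⟨g, hg, e⟩ := diagonal_transvection_induction
      (fun M => ∃ g ∈ GS n k, (g : Matrix (Fin (n + 1)) (Fin (n + 1)) k) = M) y.1 (fun D hD => by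
        rw [← GeneralLinearGroup.val_det_apply, h, det_diagonal, Units.val_one] at hD
        let d : Fin (n + 1) → kˣ := fun a => Units.mk0 (D a) (Finset.prod_ne_zero_iff.1 (hD ▸ one_ne_zero) a (Finset.mem_univ a))
        have h1 : ∏ a, d a = 1 := Units.ext (by rw [Units.coe_prod]; exact hD)
        refine ⟨_, (smS n).τ_mem_G (∏ a, coch (rtA a 0) (d a)), (Mn.coe_τ _ _ _).trans (congrArg diagonal (funext fun b => ?_))⟩
        have h2 : ∀ a, chr ((smS n).μ b) (coch (rtA a 0) (d a)) = (if b = a then d a else 1) * (if b = 0 then (d a)⁻¹ else 1) :=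
          fun a => by
            rw [chr_coch, show ∑ j, _ = _ from μ_dot b (rtA a 0), wtA_rtA, Pi.sub_apply, Pi.single_apply, Pi.single_apply]
            split_ifs <;> simp
        rw [map_prod, Finset.prod_congr rfl fun a _ => h2 a, Finset.prod_mul_distrib, Finset.prod_ite_eq, if_pos (Finset.mem_univ _)]
        split_ifs
        · rw [Finset.prod_inv_distrib, h1, inv_one, mul_one]
          rfl
        · rw [Finset.prod_const_one, mul_one]
          rfl)
      (fun t => have h := isRoot_rtA (csA n) (isCartan n) t.hij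
        ⟨_, (smS n).x_mem_G h t.c, by rw [x_eq h]; exact coe_xa t.hij t.c⟩)
      (by
        rintro _ _ ⟨g, hg, rfl⟩ ⟨g', hg', rfl⟩
        exact ⟨g * g', mul_mem hg hg', rfl⟩)
    rwa [← Units.ext e]

/-- the graph symmetry of the torus -/
def BS (n : ℕ) : Matrix (Fin n) (Fin n) ℤ := of fun i j => if j = i.rev then 1 else 0

theorem BS_vec (v : Fin n → ℤ) : BS n *ᵥ v = gA n v := funext fun i => by simp [BS, mulVec, dotProduct, gA]

theorem BS_sq : BS n ^ 2 = 1 := Matrix.ext_iff_mulVec.2 fun v => by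
  rw [sq, ← mulVec_mulVec, BS_vec, BS_vec, gA_gA, one_mulVec]

theorem wtA_gA (v : Fin n → ℤ) (a : Fin (n + 1)) : wtA n (gA n v) a.rev = -wtA n v a :=
  ext_sr (f := fun v => wtA n (gA n v) a.rev) (g := fun v => -wtA n v a) (fun a b => by rw [gA_add, map_add, Pi.add_apply])
    (fun a b => by rw [map_add, Pi.add_apply, neg_add]) (fun j => by
      rw [← rtA_sr, gA_rtA, wtA_rtA, wtA_rtA]
      simp [Pi.single_apply]) v

theorem syS : (smS n).Sy (csA n) (isCartan n) (γA n k) (gA n) (BS n) where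
  root := (syG (k := k)).root
  x a ha := ((syG (k := k)).x a ha).imp fun c h => ⟨h.1, fun u => by rw [x_eq ha, h.2, x_eq ((syG (k := k)).root a ha)]⟩
  τ c := by
    rw [MulAut.mul_apply, (smS n).itA_τ]
    exact (smS n).pm_τ fun a => by
      rw [chr_mon, map_inv, ← chr_neg]
      refine congrArg (chr · c) (funext fun i => ?_)
      have h := wtA_gA (Pi.single i 1) a
      rw [← μ_dot, ← μ_dot, ← BS_vec, dotProduct_mulVec, dotProduct_single_one, dotProduct_single_one] at h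
      exact h
  map := syG.map
  fin := syG.fin

variable {p : ℕ} [Fact p.Prime] [CharP k p] [IsAlgClosed k] (hk : ∀ a : k, ∃ j, 0 < j ∧ a ^ p ^ j = a) {e : ℕ} (he : 0 < e)
  {α : MulAut (GL (Fin (n + 1)) k)} {g : (Fin n → ℤ) → Fin n → ℤ} {B : Matrix (Fin n) (Fin n) ℤ}
  (S : (smS n).Sy (csA n) (isCartan n) α g B)

/-- **the data** -/
noncomputable abbrev datS : Datum p (MonoidHom.id (GL (Fin (n + 1)) k)) (α * frP _ p k e) (GS n k) := (okS n).datT hk he S

theorem pw_eq (w : (cA n).Group) : (smS n).pw (csA n) (isCartan n) w = (smA n).pw (csA n) (isCartan n) w := by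
  induction w using (csA n).simple_induction_left with
  | one => rw [map_one, map_one]
  | mul_simple_left w i ih =>
    rw [map_mul, map_mul, ih]
    exact congrArg (· * _) (Equiv.ext fun a => ((smS n).pw_simple i a).trans ((smA n).pw_simple i a).symm)

theorem datS_cor {a : Fin n → ℤ} (ha : (datS hk he S).Rt a) : (datS hk he S).cor a = a := by
  obtain ⟨w, i, rfl⟩ : IsRoot (csA n) (isCartan n) a := ha
  refine ((datS hk he S).cor_act_sr w i).trans (wtA_inj (funext fun b => ?_))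
  obtain ⟨b, rfl⟩ := ((smA n).pw (csA n) (isCartan n) w).surjective b
  change wtA n ((okS n).wm hk he S w *ᵥ Pi.single i 1) _ = wtA n (rep (csA n) (isCartan n) w (sr i)) _
  rw [← μ_dot, dotProduct_mulVec, ← pw_eq, (okS n).μ_pw, μ_dot, pw_eq, ← rtA_sr, rep_rtA, wtA_rtA, ← sr, ← rtA_sr, wtA_rtA]
  simp [Pi.single_apply]

/-- the frame -/
def taS (ε : ℤˣ) (π : Equiv.Perm (Fin (n + 1))) (h : ∀ v i, wtA n (B *ᵥ v) (π i) = ε * wtA n v i) :
    TA (rts (datS hk he S)) B where
  n := n + 1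
  J := JA n
  blk _ := 0
  ε := ε
  π := π
  inj v h := wtA_inj (((JA_vec v).symm.trans h).trans (map_zero _).symm)
  img := JA_img
  mem a := by
    refine ⟨?_, fun ⟨i, j, h1, _, h2, h3⟩ => ⟨rtA i j, isRoot_rtA _ _ h1, Prod.ext (h2.trans ?_) ?_⟩⟩
    · rintro ⟨b, hb, rfl⟩
      obtain ⟨i, j, h1, rfl⟩ := exists_of_isRoot _ _ hb
      exact ⟨i, j, h1, rfl, congrArg (· ᵥ* JA n) (wtA_rtA i j), by
        rw [datS_cor hk he S hb]; exact (JA_vec _).trans (wtA_rtA i j)⟩
    · exact congrArg (· ᵥ* JA n) (wtA_rtA i j).symm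
    · rw [datS_cor hk he S (isRoot_rtA _ _ h1)]
      exact wtA_inj (((JA_vec _).symm.trans h3).trans (wtA_rtA i j).symm)
  hB v i := (congrFun (JA_vec _) _).trans ((h v i).trans (congrArg (_ * ·) (congrFun (JA_vec v) i).symm))
  hπ _ _ _ := rfl

theorem stS (hq : (datS hk he S).QS) (h : B ^ 2 = 1) : St (datS hk he S) e B := ⟨he, rfl, hq, ⟨2, two_pos, h⟩, fun _ _ => rfl⟩

theorem stL : St (datS hk he (smS n).sy_one) e 1 := stS hk he _ ((okS n).dat_qs hk he) (one_pow 2)

theorem stU : St (datS hk he (syS (n := n))) e (BS n) := stS hk he _ ((okS n).datT_qs hk he syS gA_sr) BS_sq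

theorem admL : L.adm (rts (datS hk he (smS n).sy_one)) 1 :=
  ⟨taS hk he _ 1 1 fun v i => by rw [one_mulVec, Units.val_one, one_mul]; rfl⟩

theorem admU : L.adm (rts (datS hk he (syS (n := n)))) (BS n) :=
  ⟨taS hk he _ (-1) Fin.revPerm fun v i => by rw [BS_vec, Units.val_neg, Units.val_one, neg_one_mul]; exact wtA_gA v i⟩

end Cfsg.Agent.HZ.L.SL
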