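import Cfsg.Agent.HZ.L.Bas

/-!
# HZ/L/SL: the label system of `SL` and `SU` (helper34)

`TA Ψ B` : the cocharacter lattice is `{x : Fin n → ℤ | ∑ x = 0}` (along `J`), the roots are the `eᵢ - eⱼ` inside the blocks,
`B` is a permutation up to sign.  `QI Ψ c` : the stabiliser of `c` fixes central vectors only.
-/

set_option autoImplicit false
set_option linter.unusedSectionVars false
set_option maxHeartbeats 200000

namespace Cfsg.Agent.HZ.L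

open Cfsg Cfsg.Agent.DL Matrix

variable {R : Type} [Fintype R] [DecidableEq R]

/-- quasi-isolated labels -/
def QI (Ψ : RS R) (c : Lb R) : Prop := ∀ lam, (∀ h ∈ WW Ψ, Tl h c c → h *ᵥ lam = lam) → Perp Ψ lam

namespace SL

/-- `eᵢ - eⱼ` -/
def rt {ι : Type} [DecidableEq ι] (i j : ι) : ι → ℤ := Pi.single i 1 - Pi.single j 1

/-- Levi subgroups of `SL` and `SU` -/
structure TA (Ψ : RS R) (B : Mat R) where
  n : ℕ
  J : Matrix (Fin n) R ℤ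
  blk : Fin n → ℕ
  ε : ℤˣ
  π : Equiv.Perm (Fin n)
  inj : ∀ v, J *ᵥ v = 0 → v = 0
  img : ∀ x, (∃ v, J *ᵥ v = x) ↔ ∑ i, x i = 0
  mem : ∀ a, a ∈ Ψ ↔ ∃ i j, i ≠ j ∧ blk i = blk j ∧ a.1 = rt i j ᵥ* J ∧ J *ᵥ a.2 = rt i j
  hB : ∀ v i, (J *ᵥ (B *ᵥ v)) (π i) = ε * (J *ᵥ v) i
  hπ : ∀ i j, blk i = blk j → blk (π i) = blk (π j)

/-- **the label system** -/
def L : LS where
  adm Ψ B := Nonempty (TA Ψ B)
  rel := Cj
  ht Ψ _ c := QI Ψ c ∧ ∃ a ∈ Ψ, 4 ∣ orderOf (chr a.2 c)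

end SL

end Cfsg.Agent.HZ.L
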